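import Cfsg.Agent.H589.FF.Lift
import Cfsg.Agent.H985.VZ.Rep
import Cfsg.Agent.H985.VZ.Cells

/-!
# S4842: the degree of the representation of an explicit module of the Hecke algebra (helper589)

* `schur_sum` : `dim * ∑ w, |B w B| η (a_w v) ξ (a_{w⁻¹} u) = |Y| η(u) ξ(v)`;
* `card_cell` : `|B w B| = |B| q ^ l(w)` if all parameters are equal.
-/

set_option autoImplicit false
set_option linter.unusedSectionVars false

open Cfsg

namespace Cfsg.Agent.H589.FF

open CoxeterSystem Cfsg.Agent.ChevalleyStructure.CoxeterGeom Cfsg.Agent.Tits.Roots Cfsg.Agent.Tits.Core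
  Cfsg.Agent.Tits.Exchange Cfsg.Agent.Nodes.Reps Cfsg.Agent.Nodes.BNOf Cfsg.Agent.Nodes.Bruhat
  Cfsg.Agent.Nodes.LeviDec Cfsg.Agent.H967.Sph Cfsg.Agent.H985.VZ Module

variable {I W Y : Type*} [Fintype I] [DecidableEq I] [Group W] [Finite W] [Group Y] [Finite Y] {M : CoxeterMatrix I}
  {cs : CoxeterSystem M W} {A : I → I → ℤ} {h : IsCartan M A} {p : ℕ} {T : Subgroup Y} {n : I → Y}
  {X : (I → ℤ) → Subgroup Y} {q : I → ℕ} {E : Type*} [AddCommGroup E] [Module ℂ E] [FiniteDimensional ℂ E]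
  {N : I → Module.End ℂ E} (R : RGD cs h p T n X) (hG : GG cs h T X = ⊤) (hq : ∀ i, Nat.card (X (sr i)) = q i)
  (hN : HMod M q N)
include R hG hq hN

/-- **Schur's relation.** -/
theorem schur_sum [Fintype W] [Nontrivial E]
    (hirr : ∀ S : Submodule ℂ E, (∀ i, ∀ v ∈ S, N i v ∈ S) → S = ⊥ ∨ S = ⊤) (η ξ : E →ₗ[ℂ] ℂ) (u v : E) :
    (finrank ℂ (Fs cs h T n X q N) : ℂ) * ∑ w : W, (Nat.card {g : Y // Cell R.nsys cs h X w g} : ℂ) *
      (η (aw cs N w v) * ξ (aw cs N w⁻¹ u)) = Nat.card Y * (η u * ξ v) := by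
  classical
  have := Fintype.ofFinite Y
  obtain ⟨fv, hfv, hv⟩ := exists_fun R hG hq hN v
  obtain ⟨fu, hfu, hu⟩ := exists_fun R hG hq hN u
  have hv1 : (fv : Y → E) 1 = v := by
    have h1 := hv 1 1 (cell_of_rp rp_one)
    rwa [inv_one, aw_one cs hN, Module.End.one_apply] at h1
  have hu1 : (fu : Y → E) 1 = u := by
    have h1 := hu 1 1 (cell_of_rp rp_one)
    rwa [inv_one, aw_one cs hN, Module.End.one_apply] at h1
  set σ := sig cs h T n X q N with hσ
  let Z : Module.End ℂ (Fs cs h T n X q N) := (ξ ∘ₗ ev cs h T n X q N).smulRight fv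
  have hZ : ∀ f, Z f = ξ ((f : Y → E) 1) • fv := fun f => rfl
  let S : Module.End ℂ (Fs cs h T n X q N) := ∑ g : Y, σ g * Z * σ g⁻¹
  have hS : ∀ f, S f = ∑ g : Y, σ g (Z (σ g⁻¹ f)) := by
    intro f
    rw [show S = ∑ g : Y, σ g * Z * σ g⁻¹ from rfl, LinearMap.sum_apply]
    rfl
  obtain ⟨c, hc⟩ := schur (irred R hG hq hN hirr) (f := S) fun y f => by
    rw [hS, hS, map_sum, ← Equiv.sum_comp (Equiv.mulLeft y)]
    refine Finset.sum_congr rfl fun g _ => ?_
    rw [Equiv.coe_mulLeft, map_mul, Module.End.mul_apply, mul_inv_rev, map_mul, Module.End.mul_apply,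
      ← Module.End.mul_apply (σ y⁻¹), ← map_mul, inv_mul_cancel, map_one, Module.End.one_apply]
  have htr : c * finrank ℂ (Fs cs h T n X q N) = Nat.card Y * ξ v := by
    have h1 : S = c • 1 := LinearMap.ext fun f => hc f
    have h2 : LinearMap.trace ℂ _ S = Nat.card Y * ξ v := by
      rw [show S = ∑ g : Y, σ g * Z * σ g⁻¹ from rfl, map_sum]
      have h3 : ∀ g : Y, LinearMap.trace ℂ (Fs cs h T n X q N) (σ g * Z * σ g⁻¹) = ξ v := by
        intro g
        rw [LinearMap.trace_mul_comm, ← mul_assoc, ← map_mul, inv_mul_cancel, map_one, one_mul]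
        have h4 := LinearMap.trace_smulRight (ξ ∘ₗ ev cs h T n X q N) fv
        rw [h4, LinearMap.comp_apply, ev_apply, hv1]
      rw [Finset.sum_congr rfl fun g _ => h3 g, Finset.sum_const, Finset.card_univ, nsmul_eq_mul,
        Nat.card_eq_fintype_card]
    rw [h1, map_smul, LinearMap.trace_one, smul_eq_mul] at h2
    exact h2
  have hval : c * η u = ∑ g : Y, ξ ((fu : Y → E) g) * η ((fv : Y → E) g⁻¹) := by
    have h1 := congrArg (fun f : Fs cs h T n X q N => η ((f : Y → E) 1)) (hc fu)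
    beta_reduce at h1
    rw [Submodule.coe_smul, Pi.smul_apply, map_smul, hu1, smul_eq_mul] at h1
    rw [← h1, hS, Submodule.coe_sum, Finset.sum_apply, map_sum]
    refine Finset.sum_congr rfl fun g _ => ?_
    rw [hZ, map_smul, Submodule.coe_smul, Pi.smul_apply, map_smul, smul_eq_mul, sig_apply, sig_apply, inv_inv,
      mul_one, mul_one]
  have hcell : ∀ w g, Cell R.nsys cs h X w g → wOf R hG g = w := fun w g hg =>
    Cell.unique R (cell_wOf R hG g) hg
  have hsum : ∑ g : Y, ξ ((fu : Y → E) g) * η ((fv : Y → E) g⁻¹) =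
      ∑ w : W, (Nat.card {g : Y // Cell R.nsys cs h X w g} : ℂ) * (η (aw cs N w v) * ξ (aw cs N w⁻¹ u)) := by
    rw [← Finset.sum_fiberwise (s := Finset.univ) (g := fun g => wOf R hG g)]
    refine Finset.sum_congr rfl fun w _ => ?_
    have h1 : ∀ g ∈ Finset.univ.filter (fun g => wOf R hG g = w),
        ξ ((fu : Y → E) g) * η ((fv : Y → E) g⁻¹) = η (aw cs N w v) * ξ (aw cs N w⁻¹ u) := by
      intro g hg
      have h2 : Cell R.nsys cs h X w g := by
        rw [← (Finset.mem_filter.1 hg).2]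
        exact cell_wOf R hG g
      rw [hu w g h2, hv w⁻¹ g⁻¹ h2.inv, inv_inv, mul_comm]
    rw [Finset.sum_congr rfl h1, Finset.sum_const, nsmul_eq_mul]
    congr 2
    rw [Nat.card_eq_fintype_card, Fintype.card_subtype]
    congr 1
    ext g
    rw [Finset.mem_filter, Finset.mem_filter]
    exact ⟨fun h3 => ⟨h3.1, by rw [← h3.2]; exact cell_wOf R hG g⟩, fun h3 => ⟨h3.1, hcell _ _ h3.2⟩⟩
  rw [← hsum, ← hval]
  linear_combination (η u) * htr

end Cfsg.Agent.H589.FF

namespace Cfsg.Agent.H589.FF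

open CoxeterSystem Cfsg.Agent.ChevalleyStructure.CoxeterGeom Cfsg.Agent.Tits.Roots Cfsg.Agent.Tits.Core
  Cfsg.Agent.Tits.Exchange Cfsg.Agent.Nodes.Reps Cfsg.Agent.Nodes.BNOf Cfsg.Agent.Nodes.Bruhat
  Cfsg.Agent.Nodes.LeviDec Cfsg.Agent.H967.Sph Cfsg.Agent.H985.VZ Module

variable {I W Y : Type*} [Fintype I] [DecidableEq I] [Group W] [Finite W] [Group Y] [Finite Y] {M : CoxeterMatrix I}
  {cs : CoxeterSystem M W} {A : I → I → ℤ} {h : IsCartan M A} {p : ℕ} {T : Subgroup Y} {n : I → Y}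
  {X : (I → ℤ) → Subgroup Y} {q : ℕ} (R : RGD cs h p T n X)
include R

theorem card_cell (hq : ∀ i, Nat.card (X (sr i)) = q) (w : W) :
    Nat.card {g : Y // Cell R.nsys cs h X w g} = Nat.card (RGD.B cs h T X) * q ^ cs.length w := by
  obtain ⟨ω, h1, rfl⟩ := cs.exists_isReduced w
  induction ω with
  | nil => rw [cs.wordProd_nil, card_cell_one R, cs.length_one, pow_zero, mul_one]
  | cons i ω ih =>
    have h2 : cs.IsReduced ω := by simpa using h1.drop 1
    have h3 : cs.length (cs.wordProd ω) < cs.length (cs.simple i * cs.wordProd ω) := by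
      rw [← cs.wordProd_cons, h1.eq, h2.eq, List.length_cons]
      omega
    rw [h1.eq, cs.wordProd_cons, card_cell_simple R h3, ih h2, h2.eq, List.length_cons, pow_succ, qq, hq i]
    ring

theorem card_Y (hG : GG cs h T X = ⊤) (hq : ∀ i, Nat.card (X (sr i)) = q) [Fintype W] :
    (Nat.card Y : ℂ) = Nat.card (RGD.B cs h T X) * ∑ w : W, (q : ℂ) ^ cs.length w := by
  classical
  have := Fintype.ofFinite Y
  have hcell : ∀ w g, Cell R.nsys cs h X w g ↔ wOf R hG g = w := fun w g =>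
    ⟨fun hg => Cell.unique R (cell_wOf R hG g) hg, fun h => by rw [← h]; exact cell_wOf R hG g⟩
  have h1 : ∀ w : W, (Nat.card (RGD.B cs h T X) : ℂ) * (q : ℂ) ^ cs.length w =
      ((Finset.univ.filter fun g => wOf R hG g = w).card : ℂ) := by
    intro w
    rw [← Nat.cast_pow, ← Nat.cast_mul, ← card_cell R hq w, Nat.card_eq_fintype_card, Fintype.card_subtype]
    simp only [hcell]
  rw [Finset.mul_sum, Finset.sum_congr rfl fun w _ => h1 w, ← Nat.cast_sum,
    ← Finset.card_eq_sum_card_fiberwise (f := fun g => wOf R hG g) (s := Finset.univ) (t := Finset.univ)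
      (fun _ _ => Finset.mem_coe.2 (Finset.mem_univ _)), Finset.card_univ, Nat.card_eq_fintype_card]

variable {E : Type*} [AddCommGroup E] [Module ℂ E] [FiniteDimensional ℂ E] {N : I → Module.End ℂ E}

/-- **The degree formula.** -/
theorem degree_formula (hG : GG cs h T X = ⊤) (hq : ∀ i, Nat.card (X (sr i)) = q) (hN : HMod M (fun _ => q) N)
    [Nontrivial E] (hirr : ∀ S : Submodule ℂ E, (∀ i, ∀ v ∈ S, N i v ∈ S) → S = ⊥ ∨ S = ⊤)
    (η ξ : E →ₗ[ℂ] ℂ) (u v : E) :
    (finrank ℂ (Fs cs h T n X (fun _ => q) N) : ℂ) *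
      ∑ᶠ w : W, (q : ℂ) ^ cs.length w * (η (aw cs N w v) * ξ (aw cs N w⁻¹ u)) =
      (∑ᶠ w : W, (q : ℂ) ^ cs.length w) * (η u * ξ v) := by
  have := Fintype.ofFinite W
  have h1 := schur_sum R hG hq hN hirr η ξ u v
  have hB : (Nat.card (RGD.B cs h T X) : ℂ) ≠ 0 := Nat.cast_ne_zero.2 Nat.card_pos.ne'
  have h2 : ∀ w : W, (Nat.card {g : Y // Cell R.nsys cs h X w g} : ℂ) * (η (aw cs N w v) * ξ (aw cs N w⁻¹ u)) =
      Nat.card (RGD.B cs h T X) * ((q : ℂ) ^ cs.length w * (η (aw cs N w v) * ξ (aw cs N w⁻¹ u))) := by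
    intro w
    rw [card_cell R hq w]
    push_cast
    ring
  rw [Finset.sum_congr rfl fun w _ => h2 w, ← Finset.mul_sum, card_Y R hG hq] at h1
  rw [finsum_eq_sum_of_fintype, finsum_eq_sum_of_fintype]
  apply mul_left_cancel₀ hB
  linear_combination h1

end Cfsg.Agent.H589.FF
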